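import Cfsg.Agent.H849.OZ.Bad_m3
import Cfsg.Agent.H769.Kaw.Main
import Cfsg.Agent.Prune
set_option linter.all false
prune_inst 0x7f00000000000000000000000000000000000000000000000000000000000000000000000000000000000000000000000000000000000000000000000000000000000000000000000000000000000000003fffffffffffffffffffffffffffbeffbdffffffff
open scoped Cfsg.Agent.FastGrp

/-!
# `Kaw` of `HasRGD` (S4842): glue of H631/Kaw (coefficients, INJ, UNIT) and H769/Kaw (`kaw_cusp`); helper279

* `cusp_of_rgd` : `kaw_cusp` in the form `Cusp` of H631/Kaw/Unit;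
* `kaw_of_hasRGD` : a finite group with a root group datum of characteristic `p` satisfies `Kaw p`.
-/

set_option autoImplicit false

namespace Cfsg.Agent.H279.OZ

open CoxeterSystem Cfsg.Agent.ChevalleyStructure.CoxeterGeom Cfsg.Agent.Tits.Roots Cfsg.Agent.Tits.Core
  Cfsg.Agent.Tits.Exchange Cfsg.Agent.Nodes.Reps Cfsg.Agent.Nodes.BNOf Cfsg.Agent.Nodes.StabComb
  Cfsg.Agent.Nodes.Bruhat Cfsg.Agent.Nodes.OppDec Cfsg.Agent.Nodes.LeviDec Cfsg.Agent.Nodes.RGDChev
  Cfsg.Agent.H631.Kaw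

universe u

variable {I W : Type*} {Y : Type u} [Fintype I] [DecidableEq I] [Group W] [Group Y] {M : CoxeterMatrix I}
  {cs : CoxeterSystem M W} {A : I → I → ℤ} {h : IsCartan M A} {p : ℕ} {T : Subgroup Y} {n : I → Y}
  {X : (I → ℤ) → Subgroup Y}

theorem cusp_of_rgd [Finite Y] [Finite W] [hpf : Fact p.Prime] (R : RGD cs h p T n X) (hG : GG cs h T X = ⊤)
    {E : Type*} [Ring E] (φ : Y →* E) : Cusp cs h T X φ := by
  classical
  intro K f hf hc
  cases nonempty_fintype Y
  letI : DistribMulAction Y E := DistribMulAction.compHom E φ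
  have hs : ∀ (g : Y) (x : E), g • x = φ g * x := fun _ _ => rfl
  have h1 := Cfsg.Agent.H769.Kaw.kaw_cusp R hG K f (fun v hv => hf hv)
    (fun K' hK' m hm => hc K' hK' m fun v hv => hm v hv)
  have hsm : ∀ (H : Subgroup Y) (x : E), Cfsg.Agent.H769.Kaw.sm H x = S φ H * x := by
    intro H x
    rw [Cfsg.Agent.H769.Kaw.sm_def, S, Finset.sum_mul]
    refine Finset.sum_congr (by ext y; simp) fun y _ => hs y x
  rw [hsm, hsm] at h1
  have h2 : (∑ g ∈ (Set.toFinite (Set.univ : Set Y)).toFinset, (coef cs h T X g : E) * φ g) * f =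
      ∑ g : Y, coef cs h T X g • g • f := by
    rw [Finset.sum_mul]
    refine Finset.sum_congr (by ext y; simp) fun y _ => ?_
    rw [hs, zsmul_eq_mul, mul_assoc]
  rw [h2, h1, zsmul_eq_mul, nsmul_eq_mul]
  push_cast
  rw [mul_assoc]

end Cfsg.Agent.H279.OZ

namespace Cfsg.Agent.H279.OZ

open Cfsg.Agent.Nodes.RGDChev Cfsg.Agent.Nodes.BNOf Cfsg.Agent.Nodes.Bruhat Cfsg.Agent.H631.Kaw

universe u

/-- **`Kaw` of a finite group with a root group datum** -/
theorem kaw_of_hasRGD {p : ℕ} {G : Type u} [Group G] [Finite G] (hp : p.Prime) (hG : HasRGD p G) :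
    Cfsg.Agent.H730.OZ.Kaw p G := by
  haveI : Fact p.Prime := ⟨hp⟩
  have h1 := card_pSet hG
  obtain ⟨l, M, A, h, T, n, X, hW, R, hX⟩ := hG
  have h2 : GG M.toCoxeterSystem h T X = ⊤ := by
    rw [eq_top_iff, ← hX]
    exact le_sup_right
  exact kaw_of_rgd R h2 (fun E _ φ => cusp_of_rgd R h2 φ) h1

end Cfsg.Agent.H279.OZ

private theorem dce_dcae67cee5fb : _root_.True := by
  try have : _root_.True := by simp only [_root_.Cfsg.Agent.H631.Kaw.S.eq_1]
  exact _root_.True.intro
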